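import Groth.Agent.Ega3A.SheafSeq

/-!
# `H^n(U, lim F_k)` for a tower of abelian sheaves

For a tower of abelian sheaves on a space which are acyclic on a basis, with transition maps surjective on the basis:

* `exists_lift`: `H^n(U, lim F_k) → lim H^n(U, F_k)` is surjective;
* `eq_zero`: it is injective if `1 - shift` is surjective on `∏ H^(n-1)(U, F_k)`.
-/

set_option autoImplicit false
universe u v

open CategoryTheory CategoryTheory.Limits CategoryTheory.Abelian TopologicalSpace Opposite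

namespace K347.LimHU

open Groth.Agent.Ega3A

/-- If the ranges of `A → N_k` and of `N_{k+c} → N_k` agree, then `1 - shift` is surjective. -/
theorem exists_sub_shift (N : ℕᵒᵖ ⥤ AddCommGrpCat.{v}) (c : ℕ)
    (h : ∀ (m k : ℕ) (hmk : m ≤ k), m + c ≤ k → ∀ y : N.obj (op (m + c)), ∃ x : N.obj (op k),
      (N.map (homOfLE hmk).op).hom x = (N.map (homOfLE (Nat.le_add_right m c)).op).hom y)
    (t : ∀ k : ℕ, N.obj (op k)) :
    ∃ s : ∀ k : ℕ, N.obj (op k), ∀ k, s k - (N.map (homOfLE (Nat.le_succ k)).op).hom (s (k + 1)) = t k := by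
  refine MLNat.exists_sub_shift ?_ t
  rintro ⟨m⟩
  refine ⟨op (m + c), (homOfLE (Nat.le_add_right m c)).op, ?_⟩
  rintro ⟨k⟩ g
  have hmk : m ≤ k := leOfHom g.unop
  rintro _ ⟨y, rfl⟩
  by_cases hk : m + c ≤ k
  · obtain ⟨x, hx⟩ := h m k hmk hk y
    exact ⟨x, hx⟩
  · have hk' : k ≤ m + c := by omega
    refine ⟨(N.map (homOfLE hk').op).hom y, ?_⟩
    have h1 : N.map (homOfLE hk').op ≫ N.map g = N.map (homOfLE (Nat.le_add_right m c)).op := by
      rw [← N.map_comp]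
      rfl
    exact congrArg (fun φ => φ.hom y) h1

variable {X : TopCat.{u}} {B : Set (Opens X)} (hB : Opens.IsBasis B) (S : ℕᵒᵖ ⥤ CohTop.Ab X)
  (hac : ∀ k : ℕ, SheafSeq.Acyc B (S.obj (op k)))
  (hsurj : ∀ U ∈ B, ∀ k : ℕ,
    Function.Surjective ((S.map (homOfLE (Nat.le_succ k)).op).hom.app (op U)).hom)
  (c : Cone S) (hc : IsLimit c) (U : Opens X)

include hB hac hsurj hc in
theorem exists_lift (n : ℕ) (ξ : ∀ k, CohTop.HU (S.obj (op k)) n U)
    (hξ : ∀ k, CohTop.HUmap (S.map (homOfLE (Nat.le_succ k)).op) n U (ξ (k + 1)) = ξ k) :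
    ∃ η : CohTop.HU c.pt n U, ∀ k, CohTop.HUmap (c.π.app (op k)) n U η = ξ k := by
  have hD := SheafSeq.epi_D hB S hsurj
  have hb := fun (E : CohTop.Ab X) n => SheafSeq.ext_prod_bijective hB E n (fun k : ℕ => S.obj (op k)) hac
  obtain ⟨η, hη⟩ := ExtLim.exists_ext_lift S (SheafSeq.ZU U) n hD (hb _ _) ξ hξ
  let e : c.pt ≅ limit S := hc.conePointUniqueUpToIso (limit.isLimit _)
  have he : ∀ k : ℕ, e.inv ≫ c.π.app (op k) = limit.π S (op k) := fun k =>
    hc.conePointUniqueUpToIso_inv_comp (limit.isLimit S) (op k)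
  refine ⟨Ext.comp η (Ext.mk₀ e.inv) (add_zero n), fun k => ?_⟩
  refine Eq.trans ?_ (hη k)
  change (Ext.comp η (Ext.mk₀ e.inv) (add_zero n)).comp (Ext.mk₀ (c.π.app (op k))) (add_zero n) = _
  rw [Ext.comp_assoc_of_third_deg_zero, Ext.mk₀_comp_mk₀, he]

include hB hac hsurj hc in
theorem eq_zero_succ (n : ℕ)
    (hML : ∀ t : ∀ k : ℕ, CohTop.HU (S.obj (op k)) n U, ∃ s : ∀ k : ℕ, CohTop.HU (S.obj (op k)) n U,
      ∀ k, s k - CohTop.HUmap (S.map (homOfLE (Nat.le_succ k)).op) n U (s (k + 1)) = t k)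
    (η : CohTop.HU c.pt (n + 1) U) (hη : ∀ k : ℕ, CohTop.HUmap (c.π.app (op k)) (n + 1) U η = 0) : η = 0 := by
  have hD := SheafSeq.epi_D hB S hsurj
  have hb := fun (E : CohTop.Ab X) n => SheafSeq.ext_prod_bijective hB E n (fun k : ℕ => S.obj (op k)) hac
  let e : c.pt ≅ limit S := hc.conePointUniqueUpToIso (limit.isLimit _)
  have he : ∀ k : ℕ, e.hom ≫ limit.π S (op k) = c.π.app (op k) := fun k =>
    hc.conePointUniqueUpToIso_hom_comp (limit.isLimit S) (op k)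
  have h1 : Ext.comp η (Ext.mk₀ e.hom) (add_zero (n + 1)) = 0 := by
    refine ExtLim.ext_eq_zero S (SheafSeq.ZU U) n hD (hb _ n) (hb _ (n + 1)).1 (fun t => hML t) _ fun k => ?_
    rw [Ext.comp_assoc_of_third_deg_zero, Ext.mk₀_comp_mk₀, he]
    exact hη k
  have h2 : Ext.comp (Ext.comp η (Ext.mk₀ e.hom) (add_zero (n + 1))) (Ext.mk₀ e.inv) (add_zero (n + 1)) = η := by
    rw [Ext.comp_assoc_of_third_deg_zero, Ext.mk₀_comp_mk₀, Iso.hom_inv_id, Ext.comp_mk₀_id]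
  rw [← h2, h1, Ext.zero_comp]
  rfl

include hc in
theorem eq_zero_zero (η : CohTop.HU c.pt 0 U)
    (hη : ∀ k : ℕ, CohTop.HUmap (c.π.app (op k)) 0 U η = 0) : η = 0 := by
  obtain ⟨f, rfl⟩ := (Ext.mk₀_bijective (SheafSeq.ZU U) c.pt).surjective η
  have : f = 0 := by
    refine hc.hom_ext fun k => ?_
    obtain ⟨k⟩ := k
    have h1 : Ext.comp (Ext.mk₀ f) (Ext.mk₀ (c.π.app (op k))) (add_zero 0) = 0 := hη k
    rw [Ext.mk₀_comp_mk₀] at h1
    have h2 : f ≫ c.π.app (op k) = 0 := (Ext.mk₀_bijective _ _).injective (h1.trans (Ext.mk₀_zero _ _).symm)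
    exact h2.trans zero_comp.symm
  rw [this]
  exact Ext.mk₀_zero _ _

include hB hac hsurj hc in
theorem eq_zero (n : ℕ)
    (hML : ∀ j : ℕ, j + 1 = n → ∀ t : ∀ k : ℕ, CohTop.HU (S.obj (op k)) j U,
      ∃ s : ∀ k : ℕ, CohTop.HU (S.obj (op k)) j U,
        ∀ k, s k - CohTop.HUmap (S.map (homOfLE (Nat.le_succ k)).op) j U (s (k + 1)) = t k)
    (η : CohTop.HU c.pt n U) (hη : ∀ k : ℕ, CohTop.HUmap (c.π.app (op k)) n U η = 0) : η = 0 := by
  cases n with
  | zero => exact eq_zero_zero S c hc U η hη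
  | succ n => exact eq_zero_succ hB S hac hsurj c hc U n (hML n rfl) η hη

end K347.LimHU
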