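import Groth.Agent.FSch.K178.LevPush
import Groth.Agent.FSch.K178.LimPush
import Groth.Agent.FSch.K179.FFLevels
import Groth.Agent.FSch.K347.LimHU
import Groth.Agent.PerfA.AffVan
import Groth.Agent.FormalB.ToSheafLimits

/-!
# `R^n f_*(lim_k F_k) = lim_k R^n f_* F_k` for the levels of a completion

For `f : X ⟶ Y` proper, `Y` locally Noetherian, `F` coherent, `F_k = F/𝓘^(k+1)F`:

* `th_bij`: `H^q(f⁻¹V, F_k) = Γ(V, R^q f_* F_k)`, `V` affine;
* `exists_shift`: `1 - shift` is surjective on `∏ H^j(f⁻¹V, F_k)`, `V` affine;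
* `nonempty_iso`: `R^n f_*(lim_k F_k) ≅ lim_k R^n f_* F_k`.
-/

set_option autoImplicit false
set_option linter.style.haveILetI false
set_option linter.unusedSectionVars false
universe u

open CategoryTheory CategoryTheory.Limits AlgebraicGeometry TopologicalSpace Opposite

noncomputable section

namespace K347.LimPushSch

open FSch K179.LocHH K179.LocQuot K179.FFGen K179.CompSys K179.FFLoc
open Groth.Agent.Sga2lef.H96.ModSysRec Groth.Agent.Sga2lef.H96.ModSysPush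
open Groth.Agent.FormalB.KQuot Groth.Agent.FormalB.TrKQuot Groth.Agent.FormalB.ModPow
open K29.RSec

theorem exists_iso_tow {𝒟 : Type*} [Category* 𝒟] (T : ℕᵒᵖ ⥤ 𝒟) :
    Nonempty (Functor.ofOpSequence (X := fun k => T.obj (op k))
      (fun k => T.map (homOfLE (Nat.le_add_right k 1)).op) ≅ T) := by
  let φ : Functor.ofOpSequence (X := fun k => T.obj (op k))
      (fun k => T.map (homOfLE (Nat.le_add_right k 1)).op) ⟶ T :=
    NatTrans.ofOpSequence (fun k => 𝟙 _) fun k => by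
      rw [Functor.ofOpSequence_map_homOfLE_succ]
      exact (Category.comp_id _).trans (Category.id_comp _).symm
  have : ∀ k, IsIso (φ.app k) := fun k => inferInstanceAs (IsIso (𝟙 (T.obj k)))
  exact ⟨NatIso.ofComponents (fun k => asIso (φ.app k)) fun g => φ.naturality g⟩

section Gen

variable {X Y : Scheme.{u}} (f : X ⟶ Y) [QuasiCompact f] [QuasiSeparated f] [HasInjectiveResolutions X.Modules]

/-- `H^q(f⁻¹V, M) = Γ(V, R^q f_* M)` for `V` affine and `M` quasi-coherent. -/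
theorem th_bij {M : X.Modules} (hM : Coh.IsQCoh M) (q : ℕ) {V : Y.Opens} (hV : IsAffineOpen V) :
    haveI : HasInjectiveResolutions (ModSite.Mod X.sheaf) := ‹HasInjectiveResolutions X.Modules›
    Function.Bijective (K178.Theta.th (ModSite.RMor.ofScheme f) V M q) :=
  haveI : HasInjectiveResolutions (ModSite.Mod X.sheaf) := ‹HasInjectiveResolutions X.Modules›
  K178.Theta.th_bijective _ V _ q fun j p =>
    Groth.Agent.PerfA.AffVan.subsingleton_HU ((Coh.Rpush f j).obj M)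
      (Groth.Agent.CohqA.RelCoh.isQCoh_Rpush f M hM j) V hV p

end Gen

section Main

variable {X Y : Scheme.{u}} (f : X ⟶ Y) [IsProper f] (𝓘 : Y.IdealSheafData) {F : X.Modules}

/-- The tower of the `F/𝓘^(k+1)F`. -/
abbrev T (F : X.Modules) : ℕᵒᵖ ⥤ X.Modules := toSys (complMod (𝓘.comap f) F)

/-- The underlying abelian sheaves. -/
abbrev tA (X : Scheme.{u}) : X.Modules ⥤ CohTop.Ab X.toTopCat := SheafOfModules.toSheaf X.ringCatSheaf

theorem surj_T (hF : Coh.IsQCoh F) (k : ℕ) {U : X.Opens} (hU : IsAffineOpen U) :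
    Function.Surjective (((T f 𝓘 F).map (homOfLE (Nat.le_succ k)).op).app U) := by
  intro y
  obtain ⟨x, hx⟩ := IsKQuot.app_surjective (isKQuot_un (𝓘.comap f) hF k) hF hU y
  refine ⟨(un (𝓘.comap f) F (k + 1)).app U x, ?_⟩
  exact (congrArg (fun t => Scheme.Modules.Hom.app t U x) (un_toSys (𝓘.comap f) F k)).trans hx

theorem isQCoh_T (hF : Coh.IsQCoh F) (k : ℕ) : Coh.IsQCoh ((T f 𝓘 F).obj (op k)) := isQCoh_pm f 𝓘 hF k

theorem un_T (F : X.Modules) (m k : ℕ) (h : m ≤ k) :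
    un (𝓘.comap f) F k ≫ (T f 𝓘 F).map (homOfLE h).op = un (𝓘.comap f) F m := by
  induction k, h using Nat.le_induction with
  | base =>
    have h1 : (T f 𝓘 F).map (homOfLE (le_refl m)).op = 𝟙 _ := (T f 𝓘 F).map_id _
    rw [h1]
    exact Category.comp_id _
  | succ k h ih =>
    have h1 : (T f 𝓘 F).map (homOfLE (Nat.le_succ_of_le h)).op =
        (T f 𝓘 F).map (homOfLE (Nat.le_succ k)).op ≫ (T f 𝓘 F).map (homOfLE h).op := by
      rw [← (T f 𝓘 F).map_comp]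
      rfl
    rw [h1]
    refine (Category.assoc _ _ _).symm.trans ?_
    exact (congrArg (fun φ => φ ≫ (T f 𝓘 F).map (homOfLE h).op) (un_toSys (𝓘.comap f) F k)).trans ih

variable [IsLocallyNoetherian Y]

/-- `1 - shift` is surjective on `∏ H^j(f⁻¹V, F_k)`. -/
theorem exists_shift (hF : Coh.IsCoh F) (j : ℕ) {V : Y.Opens} (hV : IsAffineOpen V)
    (t : ∀ k : ℕ, CohTop.HU (X := X.toTopCat) (Coh.toAb ((T f 𝓘 F).obj (op k))) j (f ⁻¹ᵁ V)) :
    ∃ s : ∀ k : ℕ, CohTop.HU (X := X.toTopCat) (Coh.toAb ((T f 𝓘 F).obj (op k))) j (f ⁻¹ᵁ V),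
      ∀ k, s k - CohTop.HUmap (X := X.toTopCat) ((tA X).map ((T f 𝓘 F).map (homOfLE (Nat.le_succ k)).op)) j
        (f ⁻¹ᵁ V) (s (k + 1)) = t k := by
  haveI : HasInjectiveResolutions (ModSite.Mod X.sheaf) := K578.Der.hasInjectiveResolutions X.sheaf
  haveI : HasInjectiveResolutions X.Modules := K578.Der.hasInjectiveResolutions X.sheaf
  have hV' : IsAffine V.toScheme := hV
  suffices key : ∀ W : Y.Opens, W = V.ι ''ᵁ ⊤ → ∀ t : ∀ k : ℕ,
      CohTop.HU (X := X.toTopCat) (Coh.toAb ((T f 𝓘 F).obj (op k))) j (f ⁻¹ᵁ W),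
      ∃ s : ∀ k : ℕ, CohTop.HU (X := X.toTopCat) (Coh.toAb ((T f 𝓘 F).obj (op k))) j (f ⁻¹ᵁ W),
      ∀ k, s k - CohTop.HUmap (X := X.toTopCat) ((tA X).map ((T f 𝓘 F).map (homOfLE (Nat.le_succ k)).op)) j
        (f ⁻¹ᵁ W) (s (k + 1)) = t k from key V (Scheme.Opens.ι_image_top V).symm t
  rintro _ rfl t
  obtain ⟨c, hc⟩ := exists_range_fk f 𝓘 V hF j
  refine LimHU.exists_sub_shift (T f 𝓘 F ⋙ tA X ⋙ Sheaf.cohomologyPresheafFunctor
    (Opens.grothendieckTopology X.toTopCat) j ⋙ (evaluation _ _).obj (op (f ⁻¹ᵁ V.ι ''ᵁ ⊤))) c ?_ t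
  intro m k hmk hk y
  have hW : IsAffineOpen (V.ι ''ᵁ ⊤) := (VT V).2
  have hth := fun k => th_bij f (isQCoh_T f 𝓘 hF.1 k) j hW
  obtain ⟨s, hs⟩ := hc m (m + c) (Nat.le_add_right m c) le_rfl
    (K178.Theta.th (ModSite.RMor.ofScheme f) (V.ι ''ᵁ ⊤) ((T f 𝓘 F).obj (op (m + c))) j y)
  obtain ⟨x, hx⟩ := (hth k).2 (fk f 𝓘 V F j k s)
  refine ⟨x, (hth m).1 ?_⟩
  have e1 := K178.Theta.th_map (ModSite.RMor.ofScheme f) (V.ι ''ᵁ ⊤) ((T f 𝓘 F).map (homOfLE hmk).op) j x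
  have e2 := K178.Theta.th_map (ModSite.RMor.ofScheme f) (V.ι ''ᵁ ⊤)
    ((T f 𝓘 F).map (homOfLE (Nat.le_add_right m c)).op) j y
  refine Eq.trans e1 (Eq.trans ?_ e2.symm)
  rw [hx]
  refine Eq.trans ?_ hs
  have h1 : (Coh.Rpush f j).map (un (𝓘.comap f) F k) ≫ (Coh.Rpush f j).map ((T f 𝓘 F).map (homOfLE hmk).op) =
      (Coh.Rpush f j).map (un (𝓘.comap f) F m) :=
    ((Coh.Rpush f j).map_comp _ _).symm.trans (congrArg (Coh.Rpush f j).map (un_T f 𝓘 F m k hmk))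
  exact congrArg (fun t => Scheme.Modules.Hom.app t (V.ι ''ᵁ ⊤) s) h1

section HU

variable (hF : Coh.IsCoh F) (n : ℕ) (U : X.Opens)

theorem acyc_T (hF : Coh.IsCoh F) (k : ℕ) : Groth.Agent.Ega3A.SheafSeq.Acyc (X := X.toTopCat) (X.affineOpens : Set X.Opens)
    ((T f 𝓘 F ⋙ tA X).obj (op k)) := fun U hU i =>
  Groth.Agent.PerfA.AffVan.subsingleton_HU _ (isQCoh_T f 𝓘 hF.1 k) U hU i

theorem surj_TA (hF : Coh.IsCoh F) (U : X.Opens) (hU : U ∈ (X.affineOpens : Set X.Opens)) (k : ℕ) :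
    Function.Surjective (((T f 𝓘 F ⋙ tA X).map (homOfLE (Nat.le_succ k)).op).hom.app (op U)).hom :=
  surj_T f 𝓘 hF.1 k hU

/-- The limit cone of abelian sheaves. -/
abbrev cA (F : X.Modules) : Cone (T f 𝓘 F ⋙ tA X) := (tA X).mapCone (limit.cone (T f 𝓘 F))

/-- It is a limit. -/
def isLimitA (F : X.Modules) : IsLimit (cA f 𝓘 F) :=
  haveI : PreservesLimitsOfShape ℕᵒᵖ (tA X) :=
    Groth.Agent.FormalB.ToSheafLimits.preservesLimitsOfShape_toSheaf (X := X) ℕᵒᵖ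
  isLimitOfPreserves (tA X) (limit.isLimit (T f 𝓘 F))

end HU

variable (hF : Coh.IsCoh F) (n : ℕ)

include hF in
/-- `R^n f_*(lim_k F_k) ≅ lim_k R^n f_* F_k`. -/
theorem nonempty_iso [HasInjectiveResolutions X.Modules] :
    Nonempty ((Coh.Rpush f n).obj (limit (T f 𝓘 F)) ≅ limit (T f 𝓘 F ⋙ Coh.Rpush f n)) := by
  haveI : HasInjectiveResolutions (ModSite.Mod X.sheaf) := ‹HasInjectiveResolutions X.Modules›
  obtain ⟨e, -⟩ := K178.LimPush.exists_iso (ModSite.RMor.ofScheme f) n (X := fun k => (T f 𝓘 F).obj (op k))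
    (fun k => (T f 𝓘 F).map (homOfLE (Nat.le_succ k)).op) (F := (limit (T f 𝓘 F) : X.Modules))
    (fun k => limit.π (T f 𝓘 F) (op k)) (fun k => limit.w (T f 𝓘 F) (homOfLE (Nat.le_succ k)).op)
    (Y.affineOpens : Set Y.Opens)
    (fun U y hy => by
      obtain ⟨W, hW, hyW, hWU⟩ := Opens.isBasis_iff_nbhd.1 Y.isBasis_affineOpens hy
      exact ⟨W, hW, hyW, hWU⟩)
    (fun V hV x hx => LimHU.eq_zero X.isBasis_affineOpens (T f 𝓘 F ⋙ tA X) (acyc_T f 𝓘 hF)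
      (surj_TA f 𝓘 hF) (cA f 𝓘 F) (isLimitA f 𝓘 F) (f ⁻¹ᵁ V) n
      (fun j _ t => exists_shift f 𝓘 hF j hV t) x hx)
    (fun V hV y hy => LimHU.exists_lift X.isBasis_affineOpens (T f 𝓘 F ⋙ tA X) (acyc_T f 𝓘 hF)
      (surj_TA f 𝓘 hF) (cA f 𝓘 F) (isLimitA f 𝓘 F) (f ⁻¹ᵁ V) n y hy)
    (fun V hV k => th_bij f (isQCoh_T f 𝓘 hF.1 k) n hV)
  obtain ⟨e'⟩ := exists_iso_tow (T f 𝓘 F ⋙ Coh.Rpush f n)
  exact ⟨e ≪≫ lim.mapIso e'⟩

end Main

end K347.LimPushSch
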