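import Groth.Agent.FSch.K178.LevPush
import Groth.Agent.FSch.K179.KL

/-!
# `T_{Y*} R^n f^_* = R^n f_* T_{X*}` for completions

* `epi_push`: the direct image along a closed embedding of ringed spaces preserves epimorphisms;
* `nonempty_iso`: for a morphism `f : X ⟶ Y` and compatible ideals, `T_Y` and `T_X` the canonical morphisms from the
  completions, `T_{Y*} (R^n f^_* 𝔉) ≅ R^n f_* (T_{X*} 𝔉)`.
-/

set_option autoImplicit false
set_option linter.style.haveILetI false
set_option linter.unusedSectionVars false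
universe u

open CategoryTheory CategoryTheory.Limits AlgebraicGeometry TopologicalSpace Opposite

noncomputable section

namespace K347.PushTC

open FSch K29.RSec K29.RPull K29.RExact K178.LevPush

section Gen

variable {T T1 : TopCat.{u}} {f : T1 ⟶ T} {R : Sheaf (Opens.grothendieckTopology T) CommRingCat.{u}}
  {R1 : Sheaf (Opens.grothendieckTopology T1) CommRingCat.{u}}
  [(Opens.map f).IsContinuous (Opens.grothendieckTopology T) (Opens.grothendieckTopology T1)]
  (ρ : ringSheaf R ⟶ ((Opens.map f).sheafPushforwardContinuous RingCat.{u}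
    (Opens.grothendieckTopology T) (Opens.grothendieckTopology T1)).obj (ringSheaf R1))

theorem epi_push (hf : Topology.IsClosedEmbedding f) {M N : Mod R1} (g : M ⟶ N) [Epi g] : Epi ((push ρ).map g) := by
  rw [epi_iff_local]
  intro V t y hy
  by_cases h : y ∈ Set.range f
  · obtain ⟨x, rfl⟩ := h
    obtain ⟨W', hxW', hW', s, hs⟩ := (epi_iff_local g).1 inferInstance (pre f V) (show Sec N (pre f V) from t) x hy
    obtain ⟨W0, hW0, hW0'⟩ := hf.isInducing.isOpen_iff.1 W'.isOpen
    let W : Opens T := ⟨W0, hW0⟩ ⊓ V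
    have hle : pre f W ≤ W' := by
      intro z hz
      have h1 : z ∈ f ⁻¹' W0 := hz.1
      rw [hW0'] at h1
      exact h1
    have hxW : f x ∈ W := by
      refine ⟨?_, hy⟩
      have h1 : x ∈ f ⁻¹' W0 := by rw [hW0']; exact hxW'
      exact h1
    refine ⟨W, hxW, inf_le_right, (show Sec ((push ρ).obj M) W from res M hle s), ?_⟩
    have h3 : app g (pre f W) (res M hle s) = res N (hle.trans hW') (show Sec N (pre f V) from t) := by
      rw [app_res, hs, res_res]
    exact h3
  · let W : Opens T := ⟨(Set.range f)ᶜ, hf.isClosed_range.isOpen_compl⟩ ⊓ V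
    refine ⟨W, ⟨h, hy⟩, inf_le_right, 0, ?_⟩
    have h1 : ∀ a b : Sec N (pre f W), a = b := fun a b =>
      eq_of_forall_nhds N a b fun z hz => absurd ⟨z, rfl⟩ hz.1
    exact h1 _ _

end Gen

variable {X : Scheme.{u}} (𝓘 : X.IdealSheafData) (hX : (completionAlong X 𝓘).IsFormal)

theorem isClosedEmbedding_base : Topology.IsClosedEmbedding (completionToX X 𝓘 0).base :=
  have : IsClosedImmersion (completionToX X 𝓘 0) :=
    inferInstanceAs (IsClosedImmersion (𝓘 ^ (0 + 1)).subschemeι)
  (completionToX X 𝓘 0).isClosedEmbedding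

/-- The morphism of ringed spaces `X^ ⟶ X`. -/
abbrev TX : ModSite.RMor ((completionAlong X 𝓘).Osh hX) X.sheaf :=
  toSchemeMor (completionAlong X 𝓘) hX (completionToX X 𝓘) (completionToX_comm X 𝓘)

theorem epi_TX {P Q : ModF (completionAlong X 𝓘) hX} (g : P ⟶ Q) [Epi g] : Epi ((TX 𝓘 hX).push.map g) :=
  epi_push (T := X.carrier) (T1 := ((completionAlong X 𝓘).X 0).carrier)
    (f := (completionToX X 𝓘 0).base) (R := X.sheaf) (K179.KL.ρ 𝓘 hX) (isClosedEmbedding_base 𝓘) g

theorem preservesFiniteColimits_TX : PreservesFiniteColimits (TX 𝓘 hX).push :=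
  have := preservesFiniteLimits_push (TX 𝓘 hX)
  preservesFiniteColimits_of_epi _ (fun g _ => epi_TX 𝓘 hX g)

variable {Y : Scheme.{u}} (f : X ⟶ Y) (𝓚 : Y.IdealSheafData) (hpc : PowCompat f 𝓘 𝓚)
  (hY : (completionAlong Y 𝓚).IsFormal) [HasInjectiveResolutions X.Modules]
  [HasInjectiveResolutions (ModF (completionAlong X 𝓘) hX)]

/-- `T_{Y*} (R^n f^_* 𝔉) ≅ R^n f_* (T_{X*} 𝔉)`. -/
theorem nonempty_iso (𝔉 : ModF (completionAlong X 𝓘) hX) (n : ℕ) :
    Nonempty ((TX 𝓚 hY).push.obj ((RpushF (completionMap f 𝓘 𝓚 hpc) hX hY n).obj 𝔉) ≅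
      ((ModSite.RMor.ofScheme f).push.rightDerived n).obj ((TX 𝓘 hX).push.obj 𝔉)) := by
  haveI : EnoughInjectives (FSch.ModF (completionAlong X 𝓘) hX) := K578.Der.enoughInjectives _
  haveI : EnoughInjectives (ModSite.Mod X.sheaf) := K578.Der.enoughInjectives _
  haveI := preservesFiniteLimits_push (TX 𝓘 hX)
  haveI := preservesFiniteColimits_TX 𝓘 hX
  haveI := preservesFiniteLimits_push (TX 𝓚 hY)
  haveI := preservesFiniteColimits_TX 𝓚 hY
  haveI := preservesFiniteLimits_push (ModSite.RMor.ofScheme f)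
  haveI := preservesFiniteLimits_push (FSch.homMor (completionMap f 𝓘 𝓚 hpc) hX hY)
  exact Groth.Agent.Ega3B.RpushAbCmp.nonempty_iso_of_acyc
    (G := (FSch.homMor (completionMap f 𝓘 𝓚 hpc) hX hY).push)
    (G' := (ModSite.RMor.ofScheme f).push)
    (a := (TX 𝓘 hX).push)
    (b := (TX 𝓚 hY).push)
    (FSch.schPushSq (completionMap f 𝓘 𝓚 hpc) hX hY f (completionToX X 𝓘) (completionToX_comm X 𝓘)
      (completionToX Y 𝓚) (completionToX_comm Y 𝓚) (completionMap_sq f 𝓘 𝓚 hpc)).symm
    (fun I hI => acyc_push (ModSite.RMor.ofScheme f) _ (fun V n =>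
      K578.LerayPush.subsingleton_HU_push (TX 𝓘 hX) I _ n)) n 𝔉

end K347.PushTC
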